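import Cfsg.Agent.Lib.CosetEnum.Fi23Orbit.Facts

/-! The central involution of the subgroup 2.Fi22 of Fi23 is conjugate to the generator `j`. -/

set_option autoImplicit false
set_option maxRecDepth 20000
set_option Elab.async false

namespace Cfsg.Agent.Lib.FischerExist.Fi23Conj

open Cfsg.Agent.Lib.CosetEnum

/-- The conjugating word. -/
def uWord : List ℕ :=
  [7, 6, 5, 4, 3, 2, 1, 8, 3, 2, 4, 3, 5, 4, 6, 5, 8, 3, 2, 1, 4, 3, 2, 8, 3, 4, 5, 6]

/-- The intertwining relation at one point. -/
noncomputable def conjAt (i : ℕ) : Bool :=
  force (scan Fi23x31671.letters.K Fi23x31671.table (Fi23Orbit.zWord ++ uWord) i) fun a =>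
  force (scan Fi23x31671.letters.K Fi23x31671.table (uWord ++ [7]) i) fun b => Nat.beq a b

theorem part0 : allFrom 0 4000 conjAt = true := by decide +kernel

theorem part1 : allFrom 4000 4000 conjAt = true := by decide +kernel

theorem part2 : allFrom 8000 4000 conjAt = true := by decide +kernel

theorem part3 : allFrom 12000 4000 conjAt = true := by decide +kernel

theorem part4 : allFrom 16000 4000 conjAt = true := by decide +kernel

theorem part5 : allFrom 20000 4000 conjAt = true := by decide +kernel

theorem part6 : allFrom 24000 4000 conjAt = true := by decide +kernel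

theorem part7 : allFrom 28000 3671 conjAt = true := by decide +kernel

theorem conj_ok : allBelow 31671 conjAt = true :=
  allBelow_add (allBelow_add (allBelow_add (allBelow_add (allBelow_add (allBelow_add (allBelow_add (allBelow_add (rfl : allBelow 0 conjAt = true)
    part0 (rfl : 0 + 4000 = 4000))
    part1 (rfl : 4000 + 4000 = 8000))
    part2 (rfl : 8000 + 4000 = 12000))
    part3 (rfl : 12000 + 4000 = 16000))
    part4 (rfl : 16000 + 4000 = 20000))
    part5 (rfl : 20000 + 4000 = 24000))
    part6 (rfl : 24000 + 4000 = 28000))
    part7 (rfl : 28000 + 3671 = 31671)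

end Cfsg.Agent.Lib.FischerExist.Fi23Conj
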