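import Mathlib
import Cfsg.Prelude.Def_SporadicB

/-!
A conjugacy class whose centraliser is a point stabiliser with three orbits: criterion for 3-transpositions.
-/

set_option autoImplicit false

namespace Cfsg.Agent.Lib.FischerExist.Generic

variable {G : Type*} [Group G]

/-- Conjugation commutes with powers of products. -/
theorem conj_mul_pow (c x y : G) (n : ℕ) :
    (c * x * c⁻¹ * (c * y * c⁻¹)) ^ n = c * (x * y) ^ n * c⁻¹ := by
  rw [show c * x * c⁻¹ * (c * y * c⁻¹) = c * (x * y) * c⁻¹ by group, conj_pow]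

/-- An involution is conjugate to its braid neighbours. -/
theorem isConj_of_braid {x y : G} (hx : x * x = 1) (hy : y * y = 1) (h : (x * y) ^ 3 = 1) :
    IsConj x y := by
  refine isConj_iff.2 ⟨x * y, ?_⟩
  have hxi : x⁻¹ = x := inv_eq_of_mul_eq_one_right hx
  have hyi : y⁻¹ = y := inv_eq_of_mul_eq_one_right hy
  have h3 : x * y * x * y * x * y = 1 := by rw [← h, pow_succ, sq]; group
  calc x * y * x * (x * y)⁻¹ = x * y * x * y * x := by rw [mul_inv_rev, hxi, hyi]; group
    _ = (x * y * x * y * x * y) * y⁻¹ := by group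
    _ = y := by rw [h3, hyi, one_mul]

variable {N : ℕ} (ρ : G →* Equiv.Perm (Fin N)) (x₀ : Fin N) (z : G)

/-- The data: `z` centralised by the stabiliser, transitive action, three suborbits. -/
structure Three (J : Subgroup G) : Prop where
  hz : orderOf z = 2
  le_cent : J ≤ Subgroup.centralizer ({z} : Set G)
  stab : ∀ g, g ∈ J ↔ ρ g x₀ = x₀
  label : ∃ lab : Fin N → Fin 3, ∀ u v, lab u = lab v → ∃ c ∈ J, ρ c u = v
  witness : ∃ a b : G, IsConj z a ∧ IsConj z b ∧ a ≠ z ∧ Commute z a ∧ ¬ Commute z b ∧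
    (z * b) ^ 3 = 1

variable {ρ x₀ z} {J : Subgroup G}

theorem comm_of_mem (h : Three ρ x₀ z J) {c : G} (hc : c ∈ J) : c * z * c⁻¹ = z := by
  rw [Subgroup.mem_centralizer_singleton_iff.1 (h.le_cent hc)]
  group

/-- Two conjugates in the same suborbit are conjugate under the centraliser. -/
theorem transfer (h : Three ρ x₀ z J) {g k c : G} (hc : c ∈ J)
    (he : ρ c (ρ g x₀) = ρ k x₀) : k * z * k⁻¹ = c * (g * z * g⁻¹) * c⁻¹ := by
  have hm : k⁻¹ * (c * g) ∈ J := by
    rw [h.stab, map_mul, map_mul, Equiv.Perm.mul_apply, Equiv.Perm.mul_apply, he,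
      map_inv, Equiv.Perm.inv_def, Equiv.symm_apply_apply]
  have := comm_of_mem h hm
  calc k * z * k⁻¹ = k * (k⁻¹ * (c * g) * z * (k⁻¹ * (c * g))⁻¹) * k⁻¹ := by rw [this]
    _ = c * (g * z * g⁻¹) * c⁻¹ := by group

theorem main (h : Three ρ x₀ z J) :
    Subgroup.centralizer ({z} : Set G) = J ∧
      ∀ g : G, (z * (g * z * g⁻¹)) ^ 2 = 1 ∨ (z * (g * z * g⁻¹)) ^ 3 = 1 := by
  obtain ⟨a, b, ha, hb, hne, hca, hcb, hb3⟩ := h.witness
  obtain ⟨ga, rfl⟩ := isConj_iff.1 ha
  obtain ⟨gb, rfl⟩ := isConj_iff.1 hb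
  obtain ⟨lab, hlab⟩ := h.label
  have hz2 : z * z = 1 := by
    have := pow_orderOf_eq_one z
    rwa [h.hz, sq] at this
  have hsame : ∀ g k : G, lab (ρ g x₀) = lab (ρ k x₀) →
      ∃ c ∈ J, k * z * k⁻¹ = c * (g * z * g⁻¹) * c⁻¹ := by
    intro g k he
    obtain ⟨c, hc, hcv⟩ := hlab _ _ he
    exact ⟨c, hc, transfer h hc hcv⟩
  have h1 : lab (ρ 1 x₀) ≠ lab (ρ ga x₀) := by
    intro he
    obtain ⟨c, hc, hcv⟩ := hsame _ _ he
    rw [one_mul, inv_one, mul_one, comm_of_mem h hc] at hcv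
    exact hne hcv
  have h2 : lab (ρ 1 x₀) ≠ lab (ρ gb x₀) := by
    intro he
    obtain ⟨c, hc, hcv⟩ := hsame _ _ he
    rw [one_mul, inv_one, mul_one, comm_of_mem h hc] at hcv
    exact hcb (by rw [hcv])
  have h3 : lab (ρ ga x₀) ≠ lab (ρ gb x₀) := by
    intro he
    obtain ⟨c, hc, hcv⟩ := hsame _ _ he
    refine hcb ?_
    rw [hcv]
    have e := congrArg (fun w => c * w * c⁻¹) hca.eq
    calc z * (c * (ga * z * ga⁻¹) * c⁻¹)
        = (c * z * c⁻¹) * (c * (ga * z * ga⁻¹) * c⁻¹) := by rw [comm_of_mem h hc]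
      _ = c * (z * (ga * z * ga⁻¹)) * c⁻¹ := by group
      _ = c * ((ga * z * ga⁻¹) * z) * c⁻¹ := e
      _ = (c * (ga * z * ga⁻¹) * c⁻¹) * (c * z * c⁻¹) := by group
      _ = (c * (ga * z * ga⁻¹) * c⁻¹) * z := by rw [comm_of_mem h hc]
  have hall : ∀ l : Fin 3, l = lab (ρ 1 x₀) ∨ l = lab (ρ ga x₀) ∨ l = lab (ρ gb x₀) := by
    intro l
    have : ∀ p q r l : Fin 3, p ≠ q → p ≠ r → q ≠ r → l = p ∨ l = q ∨ l = r := by decide
    exact this _ _ _ l h1 h2 h3
  refine ⟨le_antisymm (fun g hg => ?_) h.le_cent, fun g => ?_⟩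
  · have hgz : g * z * g⁻¹ = z := by
      rw [Subgroup.mem_centralizer_singleton_iff.1 hg]; group
    rcases hall (lab (ρ g x₀)) with he | he | he
    · obtain ⟨c, hc, hcv⟩ := hlab _ _ he
      rw [map_one, Equiv.Perm.one_apply, ← Equiv.Perm.mul_apply, ← map_mul, ← h.stab] at hcv
      have := J.mul_mem (J.inv_mem hc) hcv
      rwa [inv_mul_cancel_left] at this
    · obtain ⟨c, hc, hcv⟩ := hsame _ _ he
      rw [hgz, comm_of_mem h hc] at hcv
      exact absurd hcv hne
    · obtain ⟨c, hc, hcv⟩ := hsame _ _ he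
      rw [hgz, comm_of_mem h hc] at hcv
      exact absurd (show Commute z (gb * z * gb⁻¹) by rw [hcv]) hcb
  · rcases hall (lab (ρ g x₀)) with he | he | he
    all_goals
      obtain ⟨c, hc, hcv⟩ := hsame _ _ he.symm
      have hcz := comm_of_mem h hc
      rw [hcv]
      nth_rw 1 3 [← hcz]
      rw [conj_mul_pow, conj_mul_pow]
    · left; simp [hz2]
    · left
      rw [hca.mul_pow, sq, hz2, one_mul, conj_pow, sq, hz2]
      group
    · right; rw [hb3]; group

/-- The class of `z` consists of 3-transpositions generating the group. -/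
theorem isThreeTranspositionClass (h : Three ρ x₀ z J)
    (hgen : Subgroup.closure (conjugatesOf z) = ⊤) :
    Cfsg.IsThreeTranspositionClass (conjugatesOf z) := by
  refine ⟨⟨fun d hd => ?_, fun d hd e he => ?_⟩, ⟨z, mem_conjugatesOf_self, rfl⟩, hgen⟩
  · obtain ⟨g, rfl⟩ := isConj_iff.1 hd
    rw [← h.hz]
    exact (MulAut.conj g).orderOf_eq z
  · obtain ⟨g, rfl⟩ := isConj_iff.1 hd
    obtain ⟨k, rfl⟩ := isConj_iff.1 he
    rw [show k * z * k⁻¹ = g * ((g⁻¹ * k) * z * (g⁻¹ * k)⁻¹) * g⁻¹ by group, conj_mul_pow,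
      conj_mul_pow]
    rcases (main h).2 (g⁻¹ * k) with e | e
    · left; rw [e]; group
    · right; rw [e]; group

/-- Suborbit representatives give a labelling. -/
theorem exists_label (reps : Fin 3 → Fin N) (h : ∀ i, ∃ k, ∃ c ∈ J, ρ c (reps k) = i) :
    ∃ lab : Fin N → Fin 3, ∀ u v, lab u = lab v → ∃ c ∈ J, ρ c u = v := by
  choose lab hlab using h
  refine ⟨lab, fun u v he => ?_⟩
  obtain ⟨a, ha, hau⟩ := hlab u
  obtain ⟨b, hb, hbv⟩ := hlab v
  refine ⟨b * a⁻¹, J.mul_mem hb (J.inv_mem ha), ?_⟩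
  rw [map_mul, Equiv.Perm.mul_apply, map_inv, Equiv.Perm.inv_def]
  rw [show (ρ a).symm u = reps (lab u) from (Equiv.symm_apply_eq _).2 hau.symm, he, hbv]

/-- At most two elements. -/
theorem eq_or_eq_of_card_le_two {α : Type*} [Finite α] (h : Nat.card α ≤ 2) {a b : α} (hab : a ≠ b)
    (c : α) : c = a ∨ c = b := by
  by_contra hne
  push Not at hne
  have hf : Function.Injective (![a, b, c] : Fin 3 → α) := by
    intro i j hij
    fin_cases i <;> fin_cases j <;>
      simp_all [hne.1.symm, hne.2.symm, hab.symm]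
  have := Nat.card_le_card_of_injective _ hf
  rw [Nat.card_fin] at this
  omega

/-- The size of a class. -/
theorem card_conjugatesOf (z : G) :
    Nat.card (conjugatesOf z) = (Subgroup.centralizer ({z} : Set G)).index := by
  rw [Subgroup.index]
  symm
  refine Nat.card_congr (Equiv.ofBijective
    (Quotient.lift (fun g : G => (⟨g * z * g⁻¹, isConj_iff.2 ⟨g, rfl⟩⟩ : conjugatesOf z))
      (fun a b hab => ?_)) ⟨?_, ?_⟩)
  · have hm := Subgroup.mem_centralizer_singleton_iff.1 (QuotientGroup.leftRel_apply.1 hab)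
    apply Subtype.ext
    show a * z * a⁻¹ = b * z * b⁻¹
    calc a * z * a⁻¹ = a * (z * (a⁻¹ * b)) * b⁻¹ := by group
      _ = a * ((a⁻¹ * b) * z) * b⁻¹ := by rw [hm]
      _ = b * z * b⁻¹ := by group
  · rintro ⟨a⟩ ⟨b⟩ hab
    apply Quotient.sound
    show QuotientGroup.leftRel _ a b
    rw [QuotientGroup.leftRel_apply, Subgroup.mem_centralizer_singleton_iff]
    have e : a * z * a⁻¹ = b * z * b⁻¹ := congrArg Subtype.val hab
    calc a⁻¹ * b * z = a⁻¹ * (b * z * b⁻¹) * b := by group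
      _ = a⁻¹ * (a * z * a⁻¹) * b := by rw [e]
      _ = z * (a⁻¹ * b) := by group
  · rintro ⟨d, hd⟩
    obtain ⟨g, rfl⟩ := isConj_iff.1 hd
    exact ⟨Quotient.mk _ g, rfl⟩

/-- Centralisers of conjugate elements are isomorphic. -/
theorem nonempty_centralizer_equiv {z d : G} (h : IsConj z d) :
    Nonempty (Subgroup.centralizer ({z} : Set G) ≃* Subgroup.centralizer ({d} : Set G)) := by
  obtain ⟨g, rfl⟩ := isConj_iff.1 h
  refine ⟨((MulAut.conj g).subgroupMap (Subgroup.centralizer ({z} : Set G))).trans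
    (MulEquiv.subgroupCongr ?_)⟩
  ext x
  simp only [Subgroup.mem_map, Subgroup.mem_centralizer_singleton_iff]
  constructor
  · rintro ⟨y, hy, rfl⟩
    calc g * y * g⁻¹ * (g * z * g⁻¹) = g * (y * z) * g⁻¹ := by group
      _ = g * (z * y) * g⁻¹ := by rw [hy]
      _ = g * z * g⁻¹ * (g * y * g⁻¹) := by group
  · intro hx
    refine ⟨g⁻¹ * x * g, ?_, by simp [mul_assoc]⟩
    calc g⁻¹ * x * g * z = g⁻¹ * (x * (g * z * g⁻¹)) * g := by group
      _ = g⁻¹ * (g * z * g⁻¹ * x) * g := by rw [hx]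
      _ = z * (g⁻¹ * x * g) := by group

/-- Non-split double covers transport along isomorphisms. -/
theorem isNonsplitDoubleCover_of_equiv {H H' K : Type*} [Group H] [Group H'] [Group K]
    (e : H ≃* H') (h : Cfsg.IsNonsplitDoubleCover H K) : Cfsg.IsNonsplitDoubleCover H' K := by
  obtain ⟨h2, ⟨f⟩, hns⟩ := h
  have hmap : (Subgroup.center H).map (e : H →* H') = Subgroup.center H' := by
    ext x
    simp only [Subgroup.mem_map, Subgroup.mem_center_iff, MonoidHom.coe_coe]
    constructor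
    · rintro ⟨y, hy, rfl⟩ g
      have := congrArg e (hy (e.symm g))
      simpa using this
    · intro hx
      refine ⟨e.symm x, fun g => e.injective ?_, by simp⟩
      simpa using hx (e g)
  refine ⟨?_, ⟨(QuotientGroup.congr _ _ e hmap).symm.trans f⟩, fun L hL => ?_⟩
  · rw [← h2, ← hmap]
    exact (Nat.card_congr ((Subgroup.center H).equivMapOfInjective _ e.injective).toEquiv).symm
  · refine hns (L.comap (e : H →* H')) ?_
    rw [← hmap] at hL
    obtain ⟨hd, hcod⟩ := And.intro hL.disjoint hL.sup_eq_top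
    have : (Subgroup.center H).Normal := inferInstance
    refine Subgroup.isComplement'_of_disjoint_and_mul_eq_univ ?_ ?_
    · rw [Subgroup.disjoint_def]
      intro x hx hx'
      have := Subgroup.disjoint_def.1 hd ⟨x, hx, rfl⟩ (Subgroup.mem_comap.1 hx')
      simpa using this
    · have htop : Subgroup.center H ⊔ L.comap (e : H →* H') = ⊤ := by
        apply Subgroup.map_injective (f := (e : H →* H')) e.injective
        rw [Subgroup.map_sup, Subgroup.map_comap_eq_self_of_surjective e.surjective, hcod,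
          Subgroup.map_top_of_surjective _ e.surjective]
      rw [← Subgroup.normal_mul, htop, Subgroup.coe_top]

end Cfsg.Agent.Lib.FischerExist.Generic
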