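import Cfsg.Agent.Lib.FischerExist.Generic
import Cfsg.Agent.S1696
import Cfsg.Agent.S1684

/-! The presented Fi22 as a 3-transposition group. -/

set_option autoImplicit false
set_option maxRecDepth 20000

namespace Cfsg.Agent.Lib.FischerExist.Fi22

open Cfsg.Agent.Lib.CosetEnum Cfsg.Agent.Lib.FischerExist.Generic Cfsg.Agent.Lib.G24

local notation "L" => Fi22x3510.letters
local notation "T" => Fi22x3510.table
local notation "G" => PresentedGroup Fi22x3510.pres
local notation "φ" => Letters.phi Fi22x3510.letters Fi22x3510.pres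

theorem prod_rel {l : List ℕ} (h : l ∈ (L).RL) : (l.map φ).prod = 1 :=
  Letters.prod_rel Fi22x3510.rels_mem Fi22x3510.letters_ok Fi22x3510.table_ok.col h

theorem sq_one (g : ℕ) (h : [g, g] ∈ (L).RL) : φ g * φ g = 1 := by
  simpa using prod_rel h

theorem braid (g k : ℕ) (h : [g, k, g, k, g, k] ∈ (L).RL) : (φ g * φ k) ^ 3 = 1 := by
  simpa [pow_succ, mul_assoc] using prod_rel h

theorem comm_words : ∀ w ∈ Fi22x3510.subWords,
    allBelow 3510 (fun i => Nat.beq (scan (L).K T (0 :: w) i) (scan (L).K T (w ++ [0]) i)) = true := by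
  decide +kernel

theorem scan_c : scan (L).K T [0] 1 ≠ scan (L).K T [2] 1 ∨ scan (L).K T [0] 6 ≠ scan (L).K T [2] 6 := by
  decide +kernel

theorem scan_b : scan (L).K T [0, 1] 0 ≠ scan (L).K T [1, 0] 0 ∨
    scan (L).K T [0, 1] 1 ≠ scan (L).K T [1, 0] 1 ∨ scan (L).K T [0, 1] 6 ≠ scan (L).K T [1, 0] 6 := by
  decide +kernel

/-- Fi22 is a 3-transposition group. -/
theorem exists_model : ∃ (H : Type) (_ : Group H) (_ : Finite H), Cfsg.IsFi22 H ∧ ∃ D : Set H,
    Cfsg.IsThreeTranspositionClass D ∧ Nat.card D = 3510 ∧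
    ∀ d ∈ D, ∃ (F : Type) (_ : Field F) (_ : Fintype F), Fintype.card F = 4 ∧
      Cfsg.IsNonsplitDoubleCover (Subgroup.centralizer ({d} : Set H)) (Cfsg.PSU 6 F 2) := by
  obtain ⟨hsimple, hG⟩ := Cfsg.Agent.S1696.result
  have hG' : Nat.card G = 64561751654400 := hG
  haveI hfin : Finite G := Nat.finite_of_card_ne_zero (by rw [hG']; omega)
  haveI : IsSimpleGroup G := hsimple
  obtain ⟨ρ, hρ, hst, htr⟩ := Fi22x3510.enum.action
  have hinj : Function.Injective ρ := by
    rw [← MonoidHom.ker_eq_bot_iff]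
    rcases (MonoidHom.normal_ker ρ).eq_bot_or_eq_top with h | h
    · exact h
    · exfalso
      obtain ⟨x, hx⟩ := htr ⟨1, by omega⟩
      rw [MonoidHom.mem_ker.1 (h ▸ Subgroup.mem_top x : x ∈ ρ.ker), Equiv.Perm.one_apply] at hx
      exact absurd (congrArg Fin.val hx) (by norm_num)
  set J : Subgroup G := subOf Fi22x3510.letters Fi22x3510.pres Fi22x3510.subWords with hJdef
  have heq : ∀ l₁ l₂ : List ℕ, (∀ g ∈ l₁, g < (L).K) → (∀ g ∈ l₂, g < (L).K) →
      (∀ i < 3510, scan (L).K T l₁ i = scan (L).K T l₂ i) → (l₁.map φ).prod = (l₂.map φ).prod := by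
    intro l₁ l₂ h1 h2 h
    apply hinj
    apply inv_injective
    apply Equiv.ext
    intro i
    apply Fin.ext
    rw [rho_scan L _ ρ hρ l₁ h1 i, rho_scan L _ ρ hρ l₂ h2 i]
    exact h i.1 i.2
  have hlt : ∀ w ∈ Fi22x3510.subWords, ∀ g ∈ w, g < (L).K := by decide +kernel
  have hle : J ≤ Subgroup.centralizer ({φ 0} : Set G) := by
    rw [hJdef, subOf, Subgroup.closure_le]
    rintro _ ⟨w, hw, rfl⟩
    rw [SetLike.mem_coe, Subgroup.mem_centralizer_singleton_iff]
    have e := heq (0 :: w) (w ++ [0])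
      (by intro g hg; rcases List.mem_cons.1 hg with rfl | hg; exacts [by decide +kernel, hlt w hw g hg])
      (by intro g hg; rcases List.mem_append.1 hg with hg | hg
          exacts [hlt w hw g hg, by rw [List.mem_singleton.1 hg]; decide +kernel])
      (fun i hi => Nat.eq_of_beq_eq_true (allBelow_iff.1 (comm_words w hw) i hi))
    simpa using e.symm
  have e : ∀ g k : ℕ, g < 9 → k < 9 → [g, k, g, k, g, k] ∈ (L).RL → IsConj (φ g) (φ k) :=
    fun g k hg hk h => isConj_of_braid (sq_one g (by interval_cases g <;> decide +kernel))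
      (sq_one k (by interval_cases k <;> decide +kernel)) (braid g k h)
  have hgen : ∀ g, g < (L).K → IsConj (φ 0) (φ g) := by
    have f1 := e 0 1 (by omega) (by omega) (by decide +kernel)
    have f2 := f1.trans (e 1 2 (by omega) (by omega) (by decide +kernel))
    have f3 := f2.trans (e 2 3 (by omega) (by omega) (by decide +kernel))
    have f4 := f3.trans (e 3 4 (by omega) (by omega) (by decide +kernel))
    have f5 := f4.trans (e 4 5 (by omega) (by omega) (by decide +kernel))
    have f6 := f5.trans (e 5 6 (by omega) (by omega) (by decide +kernel))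
    have f7 := f3.trans (e 3 7 (by omega) (by omega) (by decide +kernel))
    have f8 := f7.trans (e 7 8 (by omega) (by omega) (by decide +kernel))
    intro g hg
    have hK : g < 9 := hg
    interval_cases g
    exacts [IsConj.refl _, f1, f2, f3, f4, f5, f6, f7, f8]
  have hz2 : orderOf (φ 0) = 2 := by
    refine orderOf_eq_prime (by rw [sq]; exact sq_one 0 (by decide +kernel)) ?_
    intro h
    rcases scan_b with hb | hb | hb <;> apply hb
    all_goals
      rw [← rho_scan L _ ρ hρ [0, 1] (by decide +kernel) ⟨_, by omega⟩,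
        ← rho_scan L _ ρ hρ [1, 0] (by decide +kernel) ⟨_, by omega⟩]
      simp [h]
  have hw : ∃ a b : G, IsConj (φ 0) a ∧ IsConj (φ 0) b ∧ a ≠ φ 0 ∧ Commute (φ 0) a ∧
      ¬ Commute (φ 0) b ∧ (φ 0 * b) ^ 3 = 1 := by
    refine ⟨φ 2, φ 1, hgen 2 (by decide +kernel), hgen 1 (by decide +kernel), ?_, ?_, ?_,
      braid 0 1 (by decide +kernel)⟩
    · intro h
      rcases scan_c with hc | hc <;> apply hc
      all_goals
        rw [← rho_scan L _ ρ hρ [0] (by decide +kernel) ⟨_, by omega⟩,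
          ← rho_scan L _ ρ hρ [2] (by decide +kernel) ⟨_, by omega⟩]
        simp [h]
    · have hm : φ 2 ∈ J := Subgroup.subset_closure ⟨[2], by decide +kernel, by simp⟩
      exact (Subgroup.mem_centralizer_singleton_iff.1 (hle hm)).symm
    · intro h
      rcases scan_b with hb | hb | hb <;> apply hb
      all_goals
        rw [← rho_scan L _ ρ hρ [0, 1] (by decide +kernel) ⟨_, by omega⟩,
          ← rho_scan L _ ρ hρ [1, 0] (by decide +kernel) ⟨_, by omega⟩]
        simp only [List.map_cons, List.map_nil, List.prod_cons, List.prod_nil, mul_one, h.eq]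
  have hlab : ∃ lab : Fin 3510 → Fin 3, ∀ u v, lab u = lab v → ∃ c ∈ J, ρ c u = v := by
    refine exists_label ![⟨0, by omega⟩, ⟨1, by omega⟩, ⟨6, by omega⟩] fun i => ?_
    have h := allBelow_iff.1 Cfsg.Agent.S1696.cover i.1 i.2
    simp only [coverAt, force_eq, Bool.or_eq_true, Bool.and_eq_true, Bool.false_eq_true, or_false,
      Nat.beq_eq, Nat.blt_eq] at h
    rcases h with h | ⟨hp, hq⟩ | ⟨hp, hq⟩
    · exact ⟨0, 1, one_mem _, by rw [map_one, Equiv.Perm.one_apply]; exact Fin.ext h.symm⟩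
    · exact ⟨1, (Fi22x3510.orb1_spec ρ hρ).2.2 _ hp i hq.symm⟩
    · exact ⟨2, (Fi22x3510.orb2_spec ρ hρ).2.2 _ hp i hq.symm⟩
  have hthree : Three ρ ⟨0, by omega⟩ (φ 0) J := ⟨hz2, hle, hst, hlab, hw⟩
  have hclos : Subgroup.closure (conjugatesOf (φ 0)) = ⊤ := by
    rw [eq_top_iff, ← Letters.gen_closure (S := Fi22x3510.pres) Fi22x3510.table_ok.col]
    exact Subgroup.closure_mono fun x ⟨g, hg, hx⟩ => hx ▸ hgen g hg
  have hC : Subgroup.centralizer ({φ 0} : Set G) = J := (main hthree).1
  refine ⟨G, inferInstance, hfin, Cfsg.Agent.S1696.result, conjugatesOf (φ 0),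
    isThreeTranspositionClass hthree hclos, ?_, ?_⟩
  · rw [card_conjugatesOf, hC]
    exact Fi22x3510.enum.index
  · intro d hd
    obtain ⟨f⟩ := nonempty_centralizer_equiv hd
    exact ⟨K4, inferInstance, inferInstance, K4.card_eq,
      isNonsplitDoubleCover_of_equiv ((MulEquiv.subgroupCongr hC.symm).trans f)
        Cfsg.Agent.Lib.CosetEnum.U62.result_iso⟩

end Cfsg.Agent.Lib.FischerExist.Fi22
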