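import Cfsg.Agent.Lib.FischerExist.Generic
import Cfsg.Agent.Lib.FischerExist.Fi23Conj
import Cfsg.Agent.S1688
import Cfsg.Agent.S1697

/-! The presented Fi23 as a 3-transposition group. -/

set_option autoImplicit false
set_option maxRecDepth 20000

namespace Cfsg.Agent.Lib.FischerExist.Fi23

open Cfsg.Agent.Lib.CosetEnum Cfsg.Agent.Lib.FischerExist.Generic

local notation "L" => Fi23x31671.letters
local notation "T" => Fi23x31671.table
local notation "G" => PresentedGroup Fi23x31671.pres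
local notation "φ" => Letters.phi Fi23x31671.letters Fi23x31671.pres

theorem prod_rel {l : List ℕ} (h : l ∈ (L).RL) : (l.map φ).prod = 1 :=
  Letters.prod_rel Fi23x31671.rels_mem Fi23x31671.letters_ok Fi23x31671.table_ok.col h

theorem sq_one (g : ℕ) (h : [g, g] ∈ (L).RL) : φ g * φ g = 1 := by
  simpa using prod_rel h

theorem braid (g k : ℕ) (h : [g, k, g, k, g, k] ∈ (L).RL) : (φ g * φ k) ^ 3 = 1 := by
  simpa [pow_succ, mul_assoc] using prod_rel h

theorem comm (g k : ℕ) (hg : [g, g] ∈ (L).RL) (hk : [k, k] ∈ (L).RL) (h : [g, k, g, k] ∈ (L).RL) :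
    Commute (φ g) (φ k) := by
  have h1 := sq_one g hg
  have h2 := sq_one k hk
  have h4 : φ g * φ k * (φ g * φ k) = 1 := by simpa [mul_assoc] using prod_rel h
  have : φ g * φ k = (φ g * φ k)⁻¹ := (inv_eq_of_mul_eq_one_right h4).symm
  show φ g * φ k = φ k * φ g
  rw [this, mul_inv_rev, inv_eq_of_mul_eq_one_right h1, inv_eq_of_mul_eq_one_right h2]

theorem conj_edge (g k : ℕ) (hg : [g, g] ∈ (L).RL) (hk : [k, k] ∈ (L).RL)
    (h : [g, k, g, k, g, k] ∈ (L).RL) : IsConj (φ g) (φ k) :=
  isConj_of_braid (sq_one g hg) (sq_one k hk) (braid g k h)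

theorem conj_gen {g : ℕ} (hg : g < (L).K) : IsConj (φ 7) (φ g) := by
  have e : ∀ g k : ℕ, g < 10 → k < 10 → [g, k, g, k, g, k] ∈ (L).RL → IsConj (φ g) (φ k) :=
    fun g k hg hk h => conj_edge g k
      (by interval_cases g <;> decide +kernel) (by interval_cases k <;> decide +kernel) h
  have e01 := e 0 1 (by omega) (by omega) (by decide +kernel)
  have e12 := e 1 2 (by omega) (by omega) (by decide +kernel)
  have e23 := e 2 3 (by omega) (by omega) (by decide +kernel)
  have e34 := e 3 4 (by omega) (by omega) (by decide +kernel)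
  have e45 := e 4 5 (by omega) (by omega) (by decide +kernel)
  have e56 := e 5 6 (by omega) (by omega) (by decide +kernel)
  have e67 := e 6 7 (by omega) (by omega) (by decide +kernel)
  have e38 := e 3 8 (by omega) (by omega) (by decide +kernel)
  have e89 := e 8 9 (by omega) (by omega) (by decide +kernel)
  have f6 := e67.symm
  have f5 := f6.trans e56.symm
  have f4 := f5.trans e45.symm
  have f3 := f4.trans e34.symm
  have f2 := f3.trans e23.symm
  have f1 := f2.trans e12.symm
  have f8 := f3.trans e38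
  have hK : g < 10 := hg
  interval_cases g
  exacts [f1.trans e01.symm, f1, f2, f3, f4, f5, f6, IsConj.refl _, f8, f8.trans e89]

theorem scan_a : scan (L).K T [0] 1 ≠ scan (L).K T [7] 1 ∨ scan (L).K T [0] 2 ≠ scan (L).K T [7] 2 ∨
    scan (L).K T [0] 52 ≠ scan (L).K T [7] 52 := by decide +kernel

theorem scan_g : scan (L).K T [7, 6] 0 ≠ scan (L).K T [6, 7] 0 ∨
    scan (L).K T [7, 6] 1 ≠ scan (L).K T [6, 7] 1 ∨ scan (L).K T [7, 6] 2 ≠ scan (L).K T [6, 7] 2 ∨
    scan (L).K T [7, 6] 52 ≠ scan (L).K T [6, 7] 52 := by decide +kernel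

/-- Fi23 is a 3-transposition group. -/
theorem exists_model : ∃ (H : Type) (_ : Group H) (_ : Finite H), Cfsg.IsFi23 H ∧ ∃ D : Set H,
    Cfsg.IsThreeTranspositionClass D ∧ Nat.card D = 31671 ∧ ∀ d ∈ D, ∃ (K : Type) (_ : Group K),
      Cfsg.IsFi22 K ∧ Cfsg.IsNonsplitDoubleCover (Subgroup.centralizer ({d} : Set H)) K := by
  classical
  obtain ⟨ρ, ρJ, hρ, hst, htr, hinj, -, hge, hz0, hz1, hG, hJ⟩ := Fi23Orbit.main
  haveI hfin : Finite G := Nat.finite_of_card_ne_zero (by
    intro h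
    have := hG.symm.trans h
    omega)
  have hker : ∀ x : Fi23Orbit.J, ρJ x = 1 → x = 1 ∨ x = Fi23Orbit.z := by
    intro x hx
    have hk : Nat.card ρJ.ker ≤ 2 := by
      have h := ρJ.ker.card_mul_index
      rw [Subgroup.index_ker, hJ] at h
      by_contra hlt
      have : 3 * 64561751654400 ≤ Nat.card ρJ.ker * Nat.card ρJ.range :=
        Nat.mul_le_mul (by omega) hge
      omega
    haveI : Finite ρJ.ker := inferInstance
    rcases eq_or_eq_of_card_le_two hk (a := (1 : ρJ.ker))
      (b := ⟨Fi23Orbit.z, MonoidHom.mem_ker.2 hz0⟩) (fun h => hz1 (congrArg Subtype.val h).symm)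
      ⟨x, MonoidHom.mem_ker.2 hx⟩ with h | h
    · exact Or.inl (congrArg Subtype.val h)
    · exact Or.inr (congrArg Subtype.val h)
  set z : G := Fi23Orbit.z.1 with hzdef
  have hzc : ∀ x : Fi23Orbit.J, x * Fi23Orbit.z * x⁻¹ = Fi23Orbit.z := by
    intro x
    rcases hker (x * Fi23Orbit.z * x⁻¹) (by simp [hz0]) with h | h
    · exact absurd (conj_eq_one_iff.1 h) hz1
    · exact h
  have hz2 : orderOf z = 2 := by
    rw [hzdef, Subgroup.orderOf_coe]
    refine orderOf_eq_prime ?_ hz1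
    rcases hker (Fi23Orbit.z ^ 2) (by simp [hz0]) with h | h
    · exact h
    · rw [pow_two] at h
      exact absurd (mul_eq_left.1 h) hz1
  have hle : Fi23Orbit.J ≤ Subgroup.centralizer ({z} : Set G) := by
    intro g hg
    rw [Subgroup.mem_centralizer_singleton_iff]
    have e : g * z * g⁻¹ = z := congrArg Subtype.val (hzc ⟨g, hg⟩)
    calc g * z = g * z * g⁻¹ * g := by group
      _ = z * g := by rw [e]
  -- conjugate to the generator j
  set U : G := (Fi23Conj.uWord.map φ).prod with hU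
  have hconj : z * U = U * φ 7 := by
    apply hinj
    apply inv_injective
    apply Equiv.ext
    intro i
    apply Fin.ext
    have h := allBelow_iff.1 Fi23Conj.conj_ok i.1 i.2
    simp only [Fi23Conj.conjAt, force_eq, Nat.beq_eq] at h
    have e1 := rho_scan L _ ρ hρ (Fi23Orbit.zWord ++ Fi23Conj.uWord)
      (by decide +kernel) i
    have e2 := rho_scan L _ ρ hρ (Fi23Conj.uWord ++ [7]) (by decide +kernel) i
    rw [List.map_append, List.prod_append] at e1 e2
    simp only [List.map_cons, List.map_nil, List.prod_cons, List.prod_nil, mul_one] at e2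
    exact (e1.trans h).trans e2.symm
  have hz7 : IsConj z (φ 7) := isConj_iff.2 ⟨U⁻¹, by rw [mul_assoc U⁻¹, inv_inv, hconj]; group⟩
  have hzg : ∀ g, g < (L).K → IsConj z (φ g) := fun g hg => hz7.trans (conj_gen hg)
  -- suborbits
  have hlab : ∃ lab : Fin 31671 → Fin 3, ∀ u v, lab u = lab v → ∃ c ∈ Fi23Orbit.J, ρ c u = v := by
    refine exists_label ![⟨0, by omega⟩, ⟨1, by omega⟩, ⟨52, by omega⟩] fun i => ?_
    have h := allBelow_iff.1 S1697.cover i.1 i.2
    simp only [coverAt, force_eq, Bool.or_eq_true, Bool.and_eq_true, Bool.false_eq_true, or_false,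
      Nat.beq_eq, Nat.blt_eq] at h
    rcases h with h | ⟨hp, hq⟩ | ⟨hp, hq⟩
    · exact ⟨0, 1, one_mem _, by rw [map_one, Equiv.Perm.one_apply]; exact Fin.ext h.symm⟩
    · exact ⟨1, (Fi23x31671.orb1_spec ρ hρ).2.2 _ hp i hq.symm⟩
    · exact ⟨2, (Fi23x31671.orb2_spec ρ hρ).2.2 _ hp i hq.symm⟩
  have hw : ∃ a b : G, IsConj z a ∧ IsConj z b ∧ a ≠ z ∧ Commute z a ∧ ¬ Commute z b ∧
      (z * b) ^ 3 = 1 := by
    refine ⟨U * φ 0 * U⁻¹, U * φ 6 * U⁻¹, (hzg 0 (by decide +kernel)).trans (isConj_iff.2 ⟨U, rfl⟩),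
      (hzg 6 (by decide +kernel)).trans (isConj_iff.2 ⟨U, rfl⟩), ?_, ?_, ?_, ?_⟩
    all_goals rw [show z = U * φ 7 * U⁻¹ by rw [← hconj]; group]
    · intro h
      have h' : φ 0 = φ 7 := by simpa using h
      have e : ∀ i : Fin 31671, scan (L).K T [0] i.1 = scan (L).K T [7] i.1 := by
        intro i
        rw [← rho_scan L _ ρ hρ [0] (by decide +kernel) i,
          ← rho_scan L _ ρ hρ [7] (by decide +kernel) i]
        simp [h']
      rcases scan_a with h | h | h
      exacts [h (e ⟨1, by omega⟩), h (e ⟨2, by omega⟩), h (e ⟨52, by omega⟩)]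
    · have := (comm 0 7 (by decide +kernel) (by decide +kernel) (by decide +kernel)).symm
      exact this.conj U
    · intro h
      have h' : φ 7 * φ 6 = φ 6 * φ 7 := by
        have e := h.eq
        exact mul_right_cancel (b := U⁻¹) (mul_left_cancel (a := U)
          (by simpa [mul_assoc] using e))
      have e : ∀ i : Fin 31671, scan (L).K T [7, 6] i.1 = scan (L).K T [6, 7] i.1 := by
        intro i
        rw [← rho_scan L _ ρ hρ [7, 6] (by decide +kernel) i,
          ← rho_scan L _ ρ hρ [6, 7] (by decide +kernel) i]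
        simp only [List.map_cons, List.map_nil, List.prod_cons, List.prod_nil, mul_one, h']
      rcases scan_g with h | h | h | h
      exacts [h (e ⟨0, by omega⟩), h (e ⟨1, by omega⟩), h (e ⟨2, by omega⟩), h (e ⟨52, by omega⟩)]
    · rw [conj_mul_pow]
      have e := braid 6 7 (by decide +kernel)
      have : (φ 7 * φ 6) ^ 3 = 1 := by
        rw [show φ 7 * φ 6 = φ 7 * (φ 6 * φ 7) * (φ 7)⁻¹ by group, conj_pow, e]
        group
      rw [this]; group
  have hthree : Three ρ ⟨0, by omega⟩ z Fi23Orbit.J := ⟨hz2, hle, hst, hlab, hw⟩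
  have hgen : Subgroup.closure (conjugatesOf z) = ⊤ := by
    rw [eq_top_iff, ← Letters.gen_closure (S := Fi23x31671.pres) Fi23x31671.table_ok.col]
    exact Subgroup.closure_mono fun x ⟨g, hg, hx⟩ => hx ▸ hzg g hg
  have hC : Subgroup.centralizer ({z} : Set G) = Fi23Orbit.J := (main hthree).1
  refine ⟨G, inferInstance, hfin, Cfsg.Agent.S1697.result, conjugatesOf z,
    isThreeTranspositionClass hthree hgen, ?_, ?_⟩
  · rw [card_conjugatesOf, hC, ← Fi23Orbit.J_eq]
    exact Fi23x31671.enum.index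
  · intro d hd
    obtain ⟨e⟩ := nonempty_centralizer_equiv hd
    refine ⟨Cfsg.Spor.Fi22, inferInstance, Cfsg.Agent.S1696.result, ?_⟩
    refine isNonsplitDoubleCover_of_equiv ((MulEquiv.subgroupCongr hC.symm).trans e) ?_
    have h := Cfsg.Agent.S1688.result
    rwa [map_closure_eq_subOf Fi23x31671.letters _ Fi23x31671.subWords (by decide +kernel)
      [Cfsg.Spor.Fi23.a, Cfsg.Spor.Fi23.b, Cfsg.Spor.Fi23.c, Cfsg.Spor.Fi23.d, Cfsg.Spor.Fi23.e,
        Cfsg.Spor.Fi23.f, Cfsg.Spor.Fi23.g, Cfsg.Spor.Fi23.h, Cfsg.Spor.Fi23.i]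
      (by decide +kernel) _ (by ext; simp), Fi23Orbit.J_eq] at h

end Cfsg.Agent.Lib.FischerExist.Fi23
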